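import Groth.Agent.Lib.SeqKinds.BaseChange
import Groth.Agent.Lib.BlowUp.FlatSub
import Groth.Agent.Lib.RelReg.FibreLift
import Groth.Prelude.Def_Mor2

/-!
# Thickenings of a regularly immersed subscheme flat over the base are flat
-/

set_option autoImplicit false
set_option backward.isDefEq.respectTransparency false

universe u

open CategoryTheory AlgebraicGeometry TopologicalSpace

namespace GrothLib.DefSpace1

theorem koszul_of_regular {Z X : Scheme.{u}} {i : Z ⟶ X} {c : ℕ}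
    (h : RegImm.IsRegularImmersionOfCodim RegImm.Kind.regular c i) :
    RegImm.IsRegularImmersion RegImm.Kind.koszul i := by
  refine ⟨h.1, fun z => ?_⟩
  obtain ⟨U, hz, hci, rs, -, hrs, hI⟩ := h.2 z
  exact ⟨U, hz, hci, rs, GrothLib.KoszulFwd.isKoszulRegularSeq_of_isWeaklyRegular _ hrs.1, hI⟩

theorem koszul_of_regularClosed {Z X : Scheme.{u}} {i : Z ⟶ X} (h : Mor2.IsRegularClosedImmersion i) :
    RegImm.IsRegularImmersion RegImm.Kind.koszul i := by
  haveI := h.1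
  refine ⟨inferInstance, fun z => ?_⟩
  obtain ⟨U, hU, hz, rs, hrs, hI⟩ := h.2 z
  refine ⟨⟨U, hU⟩, hz, inferInstance, rs, GrothLib.KoszulFwd.isKoszulRegularSeq_of_isWeaklyRegular _ hrs.1, ?_⟩
  rw [← hI, Scheme.Hom.ker_apply]

/-- All thickenings of a Koszul-regularly immersed closed subscheme flat over the base are flat. -/
theorem flat_pow_subschemeι {Z P S : Scheme.{u}} (j : Z ⟶ P) [IsClosedImmersion j]
    (hj : RegImm.IsRegularImmersion RegImm.Kind.koszul j) (g : P ⟶ S) [Flat (j ≫ g)] (n : ℕ) :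
    Flat ((j.ker ^ (n + 1)).subschemeι ≫ g) := by
  haveI : Flat (j.ker.subschemeι ≫ g) := by
    haveI : IsIso j.toImage := inferInstance
    rw [show j.ker.subschemeι ≫ g = inv j.toImage ≫ j ≫ g by
      rw [IsIso.eq_inv_comp, ← Category.assoc]
      exact congrArg (· ≫ g) j.toImage_imageι]
    infer_instance
  refine GrothLib.BlowUp.flat_of_forall_exists g _ fun x => ?_
  by_cases hx : x ∈ Set.range j
  swap
  · obtain ⟨W, hW, -⟩ := GrothLib.BlowUp.exists_affine_mem_le (W := (⊤ : S.Opens)) (x := g x) trivial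
    obtain ⟨V, hxV, hVW⟩ := GrothLib.BlowUp.exists_affine_mem_le
      (W := g ⁻¹ᵁ W.1 ⊓ (⟨(Set.range j)ᶜ, j.isClosedEmbedding.isClosed_range.isOpen_compl⟩ : P.Opens))
      (x := x) ⟨hW, hx⟩
    refine ⟨W, V, hVW.trans inf_le_left, hxV, ?_⟩
    have htop : j.ker.ideal V = ⊤ := by
      rw [Scheme.Hom.ker_apply]
      have he : j ⁻¹ᵁ V.1 = ⊥ := eq_bot_iff.2 fun z hz => ((hVW hz).2 ⟨z, rfl⟩).elim
      haveI : Subsingleton Γ(Z, j ⁻¹ᵁ V.1) := by
        rw [he]; exact CommRingCat.subsingleton_of_isTerminal (Z.sheaf.isTerminalOfEmpty)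
      exact (Ideal.eq_top_iff_one _).2 (RingHom.mem_ker.2 (Subsingleton.elim _ _))
    letI : Algebra Γ(S, W.1) Γ(P, V.1) := (g.appLE W.1 V.1 (hVW.trans inf_le_left)).hom.toAlgebra
    haveI : Subsingleton (Γ(P, V.1) ⧸ (j.ker ^ (n + 1)).ideal V) := by
      rw [Ideal.Quotient.subsingleton_iff, Scheme.IdealSheafData.ideal_pow, Pi.pow_apply, htop, Ideal.top_pow]
    exact RingHom.flat_algebraMap_iff.2
      (inferInstance : Module.Flat Γ(S, W.1) (Γ(P, V.1) ⧸ (j.ker ^ (n + 1)).ideal V))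
  obtain ⟨z, rfl⟩ := hx
  obtain ⟨U, hzU, -, rs, hrs, hI⟩ := hj.2 z
  obtain ⟨W, hW, -⟩ := GrothLib.BlowUp.exists_affine_mem_le (W := (⊤ : S.Opens)) (x := g (j z)) trivial
  obtain ⟨b, hbU, hzb⟩ := U.2.exists_basicOpen_le (V := g ⁻¹ᵁ W.1) ⟨j z, hW⟩ hzU
  let V : P.affineOpens := ⟨P.basicOpen b, U.2.basicOpen b⟩
  refine ⟨W, V, hbU, hzb, ?_⟩
  let φ := (P.presheaf.map (homOfLE (P.basicOpen_le b)).op).hom
  haveI := U.2.isLocalization_basicOpen b
  have hφ : φ.Flat := RingHom.flat_algebraMap_iff.2 (IsLocalization.flat Γ(P, P.basicOpen b) (Submonoid.powers b))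
  have hq := GrothLib.SeqKinds.isQuasiRegular_map φ hφ rs.get
    (GrothLib.SeqKinds.isQuasiRegular_of_isH1Regular _ (GrothLib.SeqKinds.isH1Regular_of_isKoszulRegularSeq rs hrs))
  have hVI : j.ker.ideal V = Ideal.span (Set.range (φ ∘ rs.get)) := by
    rw [← j.ker.map_ideal (U := V) (V := U) (P.basicOpen_le b), Scheme.Hom.ker_apply, hI, Set.range_comp,
      ← Ideal.map_span, Set.range_list_get]
    rfl
  letI : Algebra Γ(S, W.1) Γ(P, V.1) := (g.appLE W.1 V.1 hbU).hom.toAlgebra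
  haveI : Module.Flat Γ(S, W.1) (Γ(P, V.1) ⧸ Ideal.span (Set.range (φ ∘ rs.get))) := by
    rw [← hVI]
    exact RingHom.flat_algebraMap_iff.1 (GrothLib.BlowUp.flat_quot_of_flat g j.ker W V hbU)
  haveI : Module.Flat Γ(S, W.1) (Γ(P, V.1) ⧸ (j.ker ^ (n + 1)).ideal V) := by
    rw [Scheme.IdealSheafData.ideal_pow, Pi.pow_apply, hVI]
    exact GrothLib.SeqKinds.flat_quot_pow _ hq (n + 1)
  exact RingHom.flat_algebraMap_iff.2
    (inferInstance : Module.Flat Γ(S, W.1) (Γ(P, V.1) ⧸ (j.ker ^ (n + 1)).ideal V))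

end GrothLib.DefSpace1
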