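import Groth.Agent.Lib.DefSpace1.Flat
import Groth.Agent.Lib.BlowUp.FlatBase
import Groth.Agent.Lib.ProjPic26.Relative
import Groth.Agent.S1676
import Groth.Agent.S8654
import Groth.Agent.Lib.CurveMult.ProjSmooth
import Groth.Agent.Lib.Chow.Prod
import Groth.Prelude.Def_P1

/-!
# The deformation to the normal cone and base change
-/

set_option autoImplicit false
set_option backward.isDefEq.respectTransparency false

universe u

open CategoryTheory CategoryTheory.Limits AlgebraicGeometry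

namespace GrothLib.DefSpace1

theorem sect_toBase (X : Scheme.{u}) (i : Fin (1 + 1)) :
    P1.sect X i ≫ CohB1.ProjSpaceOver.toBase 1 X = 𝟙 X := pullback.lift_snd _ _ _

theorem toP1_toBase {X Y : Scheme.{u}} (f : X ⟶ Y) :
    P1.toP1 f ≫ CohB1.ProjSpaceOver.toBase 1 Y = CohB1.ProjSpaceOver.toBase 1 X ≫ f := pullback.lift_snd _ _ _

theorem isPullback_toP1 {X Y : Scheme.{u}} (f : X ⟶ Y) :
    IsPullback (P1.toP1 f) (CohB1.ProjSpaceOver.toBase 1 X) (CohB1.ProjSpaceOver.toBase 1 Y) f := by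
  refine IsPullback.of_right ?_ (toP1_toBase f) (IsPullback.of_hasPullback _ (specULiftZIsTerminal.from Y))
  rw [show P1.toP1 f ≫ pullback.fst _ _ = pullback.fst _ _ from (pullback.lift_fst _ _ _).trans (Category.comp_id _),
    show f ≫ specULiftZIsTerminal.from Y = specULiftZIsTerminal.from X from specULiftZIsTerminal.hom_ext _ _]
  exact IsPullback.of_hasPullback _ _

theorem isPullback_sect {X Y : Scheme.{u}} (f : X ⟶ Y) (i : Fin (1 + 1)) :
    IsPullback f (P1.sect X i) (P1.sect Y i) (P1.toP1 f) := by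
  refine IsPullback.of_bot ?_ ?_ (isPullback_toP1 f)
  · rw [sect_toBase, sect_toBase]
    exact IsPullback.of_vert_isIso ⟨by simp⟩
  · refine pullback.hom_ext ?_ ?_
    · refine (Category.assoc _ _ _).trans (Eq.trans ?_ (Category.assoc _ _ _).symm)
      rw [show P1.toP1 f ≫ pullback.fst _ _ = pullback.fst _ _ from (pullback.lift_fst _ _ _).trans (Category.comp_id _),
        show P1.sect X i ≫ pullback.fst _ _ = _ from pullback.lift_fst _ _ _,
        show P1.sect Y i ≫ pullback.fst _ _ = _ from pullback.lift_fst _ _ _,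
        ← Category.assoc]
      exact congrArg (· ≫ P1.point i) (specULiftZIsTerminal.hom_ext _ _)
    · exact (Category.assoc _ _ _).trans (((congrArg (f ≫ ·) (sect_toBase Y i)).trans (Category.comp_id f)).trans
        (((Category.id_comp f).symm.trans (congrArg (· ≫ f) (sect_toBase X i).symm)).trans
          ((Category.assoc _ _ _).trans ((congrArg (P1.sect X i ≫ ·) (toP1_toBase f).symm).trans
            (Category.assoc _ _ _).symm))))

theorem isClosedImmersion_sect (X : Scheme.{u}) (i : Fin (1 + 1)) : IsClosedImmersion (P1.sect X i) := by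
  haveI : IsProper (CohB1.ProjSpace.toSpec 1 (ULift.{u} ℤ)) := Chow.isProper_toSpec 1 _
  haveI : IsSeparated (CohB1.ProjSpaceOver.toBase 1 X) :=
    inferInstanceAs (IsSeparated (pullback.snd (CohB1.ProjSpace.toSpec 1 (ULift.{u} ℤ)) _))
  haveI : IsClosedImmersion (P1.sect X i ≫ CohB1.ProjSpaceOver.toBase 1 X) := by rw [sect_toBase]; infer_instance
  exact IsClosedImmersion.of_comp (P1.sect X i) (CohB1.ProjSpaceOver.toBase 1 X)

/-- The centre of the deformation to the normal cone is Koszul-regularly immersed. -/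
theorem koszul_centre {X Y : Scheme.{u}} (i : Y ⟶ X) {c : ℕ}
    (hi : RegImm.IsRegularImmersionOfCodim RegImm.Kind.regular c i) :
    RegImm.IsRegularImmersion RegImm.Kind.koszul (i ≫ P1.sect X 1) := by
  haveI := isClosedImmersion_sect X 1
  haveI : Smooth (CohB1.ProjSpace.toSpec 1 (ULift.{u} ℤ)) := CurveMult.smooth_toSpec 1 _
  haveI : Smooth (CohB1.ProjSpaceOver.toBase 1 X) :=
    inferInstanceAs (Smooth (pullback.snd (CohB1.ProjSpace.toSpec 1 (ULift.{u} ℤ)) _))
  exact Groth.Agent.S8654.result (P1.sect X 1) i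
    (koszul_of_regularClosed (Groth.Agent.S1676.result (CohB1.ProjSpaceOver.toBase 1 X) (P1.sect X 1) (sect_toBase X 1)))
    (koszul_of_regular hi)

/-- Blow-ups in centres with flat thickenings commute with base change, for any pullback squares. -/
theorem isBlowUp_of_isPullback {X X' B B' S S₁ : Scheme.{u}} (g : X ⟶ S) (𝓘 : X.IdealSheafData)
    (hflat : ∀ n : ℕ, Flat ((𝓘 ^ (n + 1)).subschemeι ≫ g)) (b : B ⟶ X) (hb : _root_.BlowUp.IsBlowUp b 𝓘)
    (s : S₁ ⟶ S) (q : X' ⟶ X) (g' : X' ⟶ S₁) (hX : IsPullback q g' g s)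
    (μ : B' ⟶ B) (b' : B' ⟶ X') (hB : IsPullback μ b' b q) :
    _root_.BlowUp.IsBlowUp b' (𝓘.comap q) := by
  haveI : Flat ((𝓘.comap b).subschemeι ≫ b ≫ g) := GrothLib.BlowUp.flat_exceptional g 𝓘 hflat b hb
  refine ⟨?_, fun Y h hh => ?_⟩
  · rw [← Scheme.IdealSheafData.comap_comp, ← hB.w, Scheme.IdealSheafData.comap_comp]
    exact GrothLib.BlowUp.isEffCartierIdeal_comap_baseChange (hB.paste_vert hX) hb.1
  · rw [← Scheme.IdealSheafData.comap_comp] at hh
    obtain ⟨k, hk, huniq⟩ := hb.2 Y (h ≫ q) hh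
    refine ⟨hB.lift k h hk, hB.lift_snd _ _ _, fun m hm => ?_⟩
    refine hB.hom_ext ?_ (by rw [hB.lift_snd]; exact hm)
    rw [hB.lift_fst]
    refine huniq _ ?_
    show (m ≫ μ) ≫ b = h ≫ q
    rw [Category.assoc, hB.w, ← Category.assoc, hm]

theorem ker_comap_of_isPullback {Z Z' X X' : Scheme.{u}} {j : Z ⟶ X} [IsClosedImmersion j] {j' : Z' ⟶ X'}
    {gZ : Z' ⟶ Z} {q : X' ⟶ X} (h : IsPullback gZ j' j q) : j.ker.comap q = j'.ker := by
  rw [← h.flip.isoPullback_hom_fst, Scheme.Hom.ker_comp_of_isIso,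
    Scheme.IdealSheafData.ker_fst_of_isClosedImmersion]

end GrothLib.DefSpace1
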